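import Groth.Agent.KFlat.StalkTot
import Mathlib.AlgebraicGeometry.Modules.Tilde

/-!
# Stalks of `M~` as base change, and tilde of K-flat complexes
-/

set_option backward.isDefEq.respectTransparency false
set_option backward.isDefEq.respectTransparency.types false
set_option linter.style.haveILetI false
set_option autoImplicit false

universe u

open CategoryTheory Limits AlgebraicGeometry MonoidalCategory TensorProduct Opposite

namespace Groth.Agent.TildeKFlat

variable {R : CommRingCat.{u}} (x : Spec R)

/-- `R → O_{Spec R, x}` -/
noncomputable def toStalkRing : R →+* (Spec R).presheaf.stalk x :=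
  (StructureSheaf.toStalk R x).hom

lemma smul_stalk (M : ModuleCat.{u} R) (r : R) (m : (tilde M).presheaf.stalk x) :
    r • m = toStalkRing x r • m := rfl

/-- The map `M → (M~)_x`, with values in the restriction of scalars. -/
noncomputable def lin (M : ModuleCat.{u} R) :
    M ⟶ (ModuleCat.restrictScalars (toStalkRing x)).obj
      ((DerSch.stalkFunctor (Spec R) x).obj (tilde M)) :=
  ModuleCat.ofHom (X := M)
    (Y := (ModuleCat.restrictScalars (toStalkRing x)).obj
      ((DerSch.stalkFunctor (Spec R) x).obj (tilde M)))
    { toFun := fun m => (tilde.toStalk M x).hom m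
      map_add' := map_add _
      map_smul' := fun r m => (tilde.toStalk M x).hom.map_smul r m }

lemma lin_natural {M N : ModuleCat.{u} R} (f : M ⟶ N) :
    lin x M ≫ (ModuleCat.restrictScalars (toStalkRing x)).map
        ((DerSch.stalkFunctor (Spec R) x).map ((tilde.functor R).map f)) =
      f ≫ lin x N := by
  ext m
  change (DerSch.stalkFunctor (Spec R) x).map (tilde.map f)
      ((tilde M).presheaf.germ ⊤ x trivial (tilde.toOpen M ⊤ m)) =
    (tilde N).presheaf.germ ⊤ x trivial (tilde.toOpen N ⊤ (f m))
  rw [DerSch.stalkFunctor_map_germ]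
  congr 1
  exact congr($(tilde.toOpen_map_app f ⊤) m)

/-- The comparison map `O_x ⊗_R M → (M~)_x`. -/
noncomputable def cmp :
    ModuleCat.extendScalars.{u, u, u} (toStalkRing x) ⟶
      tilde.functor R ⋙ DerSch.stalkFunctor (Spec R) x where
  app M := ((ModuleCat.extendRestrictScalarsAdj (toStalkRing x)).homEquiv M _).symm (lin x M)
  naturality M N f := by
    rw [← Adjunction.homEquiv_naturality_left_symm, ← lin_natural]
    exact Adjunction.homEquiv_naturality_right_symm _ _ _

lemma cmp_tmul (M : ModuleCat.{u} R) (s : (Spec R).presheaf.stalk x) (m : M) :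
    letI := Module.compHom ((Spec R).presheaf.stalk x) (toStalkRing x)
    (cmp x).app M (s ⊗ₜ[R] m) = s • (lin x M).hom m := rfl

lemma bijective_cmp_app (M : ModuleCat.{u} R) : Function.Bijective ((cmp x).app M).hom := by
  letI : Algebra R ((Spec R).presheaf.stalk x) := (toStalkRing x).toAlgebra
  haveI : IsScalarTower R ((Spec R).presheaf.stalk x) ((tilde M).presheaf.stalk x) :=
    .of_algebraMap_smul fun _ _ => rfl
  haveI : IsLocalization x.asIdeal.primeCompl ((Spec R).presheaf.stalk x) :=
    inferInstanceAs (IsLocalization.AtPrime ((AlgebraicGeometry.structurePresheafInCommRingCat R).stalk x) x.asIdeal)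
  have h : IsBaseChange ((Spec R).presheaf.stalk x) (tilde.toStalk M x).hom :=
    IsLocalizedModule.isBaseChange x.asIdeal.primeCompl _ _
  have e : ∀ z, ((cmp x).app M).hom z = h.equiv z := by
    intro z
    induction z using TensorProduct.induction_on with
    | zero => exact (map_zero _).trans (map_zero h.equiv).symm
    | tmul s m =>
      refine (cmp_tmul x M s m).trans ?_
      exact (h.equiv_tmul s m).symm
    | add a b ha hb =>
      exact (map_add _ a b).trans ((congrArg₂ (· + ·) ha hb).trans (map_add h.equiv a b).symm)
  constructor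
  · intro a b hab
    exact h.equiv.injective (by rw [← e, ← e]; exact hab)
  · intro y
    obtain ⟨z, hz⟩ := h.equiv.surjective y
    exact ⟨z, (e z).trans hz⟩

instance isIso_cmp : IsIso (cmp x) := by
  have : ∀ M, IsIso ((cmp x).app M) := fun M =>
    (ConcreteCategory.isIso_iff_bijective _).2 (bijective_cmp_app x M)
  exact NatIso.isIso_of_isIso_app _

/-- **Tilde of a K-flat complex is K-flat.** -/
theorem tilde_isKFlat (K : DRing.Cx R) (hK : DRing.IsKFlat R K) :
    DCoh.IsKFlat (((tilde.functor R).mapHomologicalComplex (ComplexShape.up ℤ)).obj K) := by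
  rw [KFlat.isKFlat_iff_stalks]
  intro y M hM i
  have h := KFlat.isKFlat_extendScalars (toStalkRing y) hK M hM i
  refine h.of_iso ((HomologicalComplex.homologyFunctor _ _ i).mapIso
    (MonoidalCategory.tensorIso (Iso.refl M) ?_))
  exact (HomologicalComplex.Hom.isoOfComponents (fun n => (asIso (cmp y)).app (K.X n))
    fun a b _ => ((cmp y).naturality (K.d a b)).symm).symm

end Groth.Agent.TildeKFlat
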