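import Groth.Agent.TildeKFlat.Main
import Groth.Agent.KFlat.Derived
import Groth.Agent.DRingKP.Derive
import Groth.Agent.DRingKP.Nilp
import Groth.Agent.QC.PullbackTilde
import Groth.Prelude.Def_DCoh2

/-!
# Derived pullback of `M~` is derived base change
-/

set_option backward.isDefEq.respectTransparency false
set_option backward.isDefEq.respectTransparency.types false
set_option linter.style.haveILetI false
set_option autoImplicit false

universe u

open CategoryTheory Limits AlgebraicGeometry MonoidalCategory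

attribute [local instance] HasDerivedCategory.standard

namespace Groth.Agent.TildeKFlat

variable {A B : Type u} [CommRing A] [CommRing B] (φ : A →+* B)


lemma additive_tilde (R : CommRingCat.{u}) : (tilde.functor R).Additive := inferInstance

instance additive_tilde_of (A : Type u) [CommRing A] : (tilde.functor (CommRingCat.of A)).Additive :=
  additive_tilde _

lemma preservesFiniteColimits_tilde (R : CommRingCat.{u}) : PreservesFiniteColimits (tilde.functor R) :=
  inferInstance

instance preservesFiniteColimits_tilde_of (A : Type u) [CommRing A] :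
    PreservesFiniteColimits (tilde.functor (CommRingCat.of A)) :=
  preservesFiniteColimits_tilde _

variable [PreservesFiniteLimits (tilde.functor (CommRingCat.of A))] [PreservesFiniteLimits (tilde.functor (CommRingCat.of B))] [DRing.HasLBaseChange φ]
  [DCoh.HasLpull (Spec.map (CommRingCat.ofHom φ))]

/-- The comparison for derived base change. -/
noncomputable def β₁ : DerivedCategory.Qh ⋙ DRing.LBaseChange φ ⋙ DCoh.tildeD (CommRingCat.of B) ⟶
    DRing.baseChangeKh φ ⋙ DCoh.tildeD (CommRingCat.of B) :=
  (Functor.associator _ _ _).inv ≫ Functor.whiskerRight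
    ((DRing.baseChangeKh φ).totalLeftDerivedCounit DerivedCategory.Qh
      (HomotopyCategory.quasiIso (ModuleCat.{u} A) (ComplexShape.up ℤ))) _

/-- The comparison of `Lf^*` on tilde complexes with base change. -/
noncomputable def β₂ : DerivedCategory.Qh ⋙ DCoh.tildeD (CommRingCat.of A) ⋙ DCoh.Lpull (Spec.map (CommRingCat.ofHom φ)) ⟶
    DRing.baseChangeKh φ ⋙ DCoh.tildeD (CommRingCat.of B) :=
  (Functor.associator _ _ _).inv ≫
    Functor.whiskerRight (((tilde.functor (CommRingCat.of A))).mapDerivedCategoryFactorsh).hom _ ≫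
    (Functor.associator _ _ _).hom ≫
    Functor.whiskerLeft (((tilde.functor (CommRingCat.of A))).mapHomotopyCategory (ComplexShape.up ℤ))
      ((DCoh.pullKh (Spec.map (CommRingCat.ofHom φ))).totalLeftDerivedCounit DerivedCategory.Qh
        (HomotopyCategory.quasiIso (Spec (CommRingCat.of A)).Modules (ComplexShape.up ℤ))) ≫
    (Functor.associator _ _ _).inv ≫
    Functor.whiskerRight
      ((Functor.mapHomotopyCategoryCompIso (QC.pullbackTildeIso (CommRingCat.ofHom φ))
          (ComplexShape.up ℤ)).hom ≫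
        (Functor.mapHomotopyCategoryCompIso (Iso.refl (ModuleCat.extendScalars.{u, u, u} φ ⋙ (tilde.functor (CommRingCat.of B))))
          (ComplexShape.up ℤ)).inv) DerivedCategory.Qh ≫
    (Functor.associator _ _ _).hom ≫
    Functor.whiskerLeft ((ModuleCat.extendScalars.{u, u, u} φ).mapHomotopyCategory (ComplexShape.up ℤ))
      (((tilde.functor (CommRingCat.of B))).mapDerivedCategoryFactorsh).inv ≫
    (Functor.associator _ _ _).inv

lemma isIso_β₁ (P : DRing.Cx A) [P.IsKProjective] : IsIso ((β₁ φ).app (((HomotopyCategory.quotient (ModuleCat.{u} A) (ComplexShape.up ℤ))).obj P)) := by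
  have := DRingKP.isIso_app (ModuleCat.extendScalars.{u, u, u} φ) (DRing.LBaseChange φ)
    ((DRing.baseChangeKh φ).totalLeftDerivedCounit DerivedCategory.Qh
      (HomotopyCategory.quasiIso (ModuleCat.{u} A) (ComplexShape.up ℤ))) P
  simp only [β₁, NatTrans.comp_app, Functor.whiskerRight_app]
  infer_instance

lemma isIso_β₂ (P : DRing.Cx A) (hP : DRing.IsKFlat A P) : IsIso ((β₂ φ).app (((HomotopyCategory.quotient (ModuleCat.{u} A) (ComplexShape.up ℤ))).obj P)) := by
  have h := tilde_isKFlat (R := CommRingCat.of A) P hP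
  have := KFlat.isIso_app_of_kFlat (KFlat.kFlatAcyclic_pullback (Spec.map (CommRingCat.ofHom φ))) (DCoh.Lpull (Spec.map (CommRingCat.ofHom φ)))
    ((DCoh.pullKh (Spec.map (CommRingCat.ofHom φ))).totalLeftDerivedCounit DerivedCategory.Qh
      (HomotopyCategory.quasiIso (Spec (CommRingCat.of A)).Modules (ComplexShape.up ℤ))) h
  have h2 : IsIso (((DCoh.pullKh (Spec.map (CommRingCat.ofHom φ))).totalLeftDerivedCounit DerivedCategory.Qh
      (HomotopyCategory.quasiIso (Spec (CommRingCat.of A)).Modules (ComplexShape.up ℤ))).app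
        ((((tilde.functor (CommRingCat.of A))).mapHomotopyCategory (ComplexShape.up ℤ)).obj (((HomotopyCategory.quotient (ModuleCat.{u} A) (ComplexShape.up ℤ))).obj P))) := this
  simp only [β₂, NatTrans.comp_app, Functor.whiskerRight_app, Functor.whiskerLeft_app]
  infer_instance

/-- A K-projective resolution, functorially in the homotopy category. -/
noncomputable abbrev rA : (HomotopyCategory (ModuleCat.{u} A) (ComplexShape.up ℤ)) ⥤ (HomotopyCategory (ModuleCat.{u} A) (ComplexShape.up ℤ)) := DRingKP.resFun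

lemma isIso_β₂_res (X : (HomotopyCategory (ModuleCat.{u} A) (ComplexShape.up ℤ))) : IsIso ((β₂ φ).app ((rA).obj X)) := by
  obtain ⟨P, c, hP, hflat, -, hc⟩ := DRingKP.exists_kProj_kFlat_resolution ((rA).obj X).as
  have hX : CochainComplex.IsKProjective ((rA).obj X).as := DRingKP.kProj_resObj X
  have := hP
  have : IsIso (((HomotopyCategory.quotient (ModuleCat.{u} A) (ComplexShape.up ℤ))).map c) := by
    have := (CochainComplex.IsKProjective.quasiIso_iff c).1 hc
    rwa [← HomotopyCategory.inverseImage_quotient_isomorphisms] at this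
  have := isIso_β₂ φ P hflat
  exact (NatTrans.isIso_app_iff_of_iso (β₂ φ) (asIso (((HomotopyCategory.quotient (ModuleCat.{u} A) (ComplexShape.up ℤ))).map c))).1 this

lemma isIso_β₁_res (X : (HomotopyCategory (ModuleCat.{u} A) (ComplexShape.up ℤ))) : IsIso ((β₁ φ).app ((rA).obj X)) := by
  have : CochainComplex.IsKProjective ((rA).obj X).as := DRingKP.kProj_resObj X
  exact isIso_β₁ φ ((rA).obj X).as

/-- **`Lf^* (M~) = (M ⊗^L B)~`.** -/
theorem nonempty_lpull_tildeD :
    Nonempty (DRing.LBaseChange φ ⋙ DCoh.tildeD (CommRingCat.of B) ≅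
      DCoh.tildeD (CommRingCat.of A) ⋙ DCoh.Lpull (Spec.map (CommRingCat.ofHom φ))) := by
  haveI : ∀ X, IsIso ((Functor.whiskerLeft (rA) (β₁ φ)).app X) := isIso_β₁_res φ
  haveI : ∀ X, IsIso ((Functor.whiskerLeft (rA) (β₂ φ)).app X) := isIso_β₂_res φ
  haveI : IsIso (Functor.whiskerLeft (rA) (β₁ φ)) := NatIso.isIso_of_isIso_app _
  haveI : IsIso (Functor.whiskerLeft (rA) (β₂ φ)) := NatIso.isIso_of_isIso_app _
  let e : rA ⋙ DerivedCategory.Qh ≅ DerivedCategory.Qh :=
    NatIso.ofComponents (fun X => @asIso _ _ _ _ (DerivedCategory.Qh.map (DRingKP.resπ (A := A) X)) inferInstance)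
      (fun {X Y} f => by
        change DerivedCategory.Qh.map (DRingKP.resMap f) ≫ DerivedCategory.Qh.map (DRingKP.resπ Y) =
          DerivedCategory.Qh.map (DRingKP.resπ X) ≫ DerivedCategory.Qh.map f
        simp [DRingKP.resMap_spec])
  refine ⟨Localization.liftNatIso DerivedCategory.Qh
    (HomotopyCategory.quasiIso (ModuleCat.{u} A) (ComplexShape.up ℤ))
    (DerivedCategory.Qh ⋙ DRing.LBaseChange φ ⋙ DCoh.tildeD (CommRingCat.of B))
    (DerivedCategory.Qh ⋙ DCoh.tildeD (CommRingCat.of A) ⋙ DCoh.Lpull (Spec.map (CommRingCat.ofHom φ))) _ _ ?_⟩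
  exact Functor.isoWhiskerRight e.symm _ ≪≫ Functor.associator _ _ _ ≪≫
    asIso (Functor.whiskerLeft (rA) (β₁ φ)) ≪≫
    (asIso (Functor.whiskerLeft (rA) (β₂ φ))).symm ≪≫
    (Functor.associator _ _ _).symm ≪≫ Functor.isoWhiskerRight e _

end Groth.Agent.TildeKFlat
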